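import Groth.Agent.SmoothGrp.MonoIso
import Groth.Agent.SmoothWeil.Local
import Groth.Agent.WeilClosedLib.Rep

/-!
Where a monomorphism into a smooth group is an isomorphism, read on an etale chart at the unit.
-/

set_option autoImplicit false
set_option backward.isDefEq.respectTransparency false
set_option backward.isDefEq.respectTransparency.types false
set_option linter.style.haveILetI false

universe u

open CategoryTheory CategoryTheory.Limits MonoidalCategory CartesianMonoidalCategory MonObj AlgebraicGeometry TensorProduct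

noncomputable section

namespace Groth.Agent.SmoothGrp

section BC

variable {S X : Scheme.{u}} (f : X ⟶ S) {R B : Type u} [CommRing R] [CommRing B] [Algebra R B]
  (h : Spec (CommRingCat.of R) ⟶ S) (ρ : Spec (CommRingCat.of B) ⟶ X)
  (hρ : ρ ≫ f = Spec.map (CommRingCat.ofHom (algebraMap R B)) ≫ h) (C : Type u) [CommRing C] [Algebra R C]

/-- The base changed chart is a base change of the chart. -/
theorem isPullback_chartMap [Mono h] : IsPullback
    (Spec.map (CommRingCat.ofHom (Algebra.TensorProduct.includeRight : B →ₐ[R] C ⊗[R] B).toRingHom))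
    (SmoothWeil.chartMap f h ρ hρ C) ρ (pullback.fst f _) := by
  have sq : IsPullback (Spec.map (CommRingCat.ofHom (Algebra.TensorProduct.includeRight : B →ₐ[R] C ⊗[R] B).toRingHom))
      (Spec.map (CommRingCat.ofHom (Algebra.TensorProduct.includeLeftRingHom : C →+* C ⊗[R] B)))
      (Spec.map (CommRingCat.ofHom (algebraMap R B))) (Spec.map (CommRingCat.ofHom (algebraMap R C))) :=
    (isPullback_SpecMap_of_isPushout _ _ _ _ (CommRingCat.isPushout_tensorProduct R C B)).flip
  have sq' : IsPullback (Spec.map (CommRingCat.ofHom (Algebra.TensorProduct.includeRight : B →ₐ[R] C ⊗[R] B).toRingHom))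
      (SmoothWeil.chartMap f h ρ hρ C ≫ pullback.snd _ _) (ρ ≫ f)
      (Spec.map (CommRingCat.ofHom (algebraMap R C)) ≫ h) := by
    rw [SmoothWeil.chartMap_snd, hρ]
    refine ⟨⟨by rw [reassoc_of% sq.w]⟩, ⟨PullbackCone.IsLimit.mk _ (fun s => sq.lift s.fst s.snd ((cancel_mono h).1 (by
      simpa using s.condition))) (fun s => sq.lift_fst _ _ _) (fun s => sq.lift_snd _ _ _) fun s m h₁ h₂ => ?_⟩⟩
    exact sq.hom_ext (by rw [h₁, sq.lift_fst]) (by rw [h₂, sq.lift_snd])
  exact IsPullback.of_bot sq' (SmoothWeil.chartMap_fst f h ρ hρ C).symm (IsPullback.of_hasPullback _ _)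

end BC

variable {S : Scheme.{u}} {X Y : Over S} [GrpObj X] [GrpObj Y] (i : Y ⟶ X) [IsMonHom i] [Mono i]
  [Smooth X.hom] [GeometricallyIrreducible X.hom]

/-- The coefficient ideal of an etale chart at the unit represents where `i` is an isomorphism. -/
theorem repBy_of_chart {R : CommRingCat.{u}} (h : Spec R ⟶ S) [Mono h] (B : Type u) [CommRing B] [Algebra R B]
    [Algebra.Smooth R B] (e : B →ₐ[R] R) (I : Ideal B) (hI : I.FG)
    (ρ : Spec (CommRingCat.of B) ⟶ X.left) [Etale ρ]
    (hρ : ρ ≫ X.hom = Spec.map (CommRingCat.ofHom (algebraMap R B)) ≫ h)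
    (κ : Spec (CommRingCat.of (B ⧸ I)) ⟶ Y.left) [IsOpenImmersion κ]
    (hκ : κ ≫ i.left = Spec.map (CommRingCat.ofHom (Ideal.Quotient.mk I)) ≫ ρ)
    (hIe : I ≤ RingHom.ker e)
    (he : Spec.map (CommRingCat.ofHom (Ideal.Quotient.lift I e.toRingHom hIe)) ≫ κ = h ≫ η[Y].left) :
    ∃ c : Ideal R, WeilClosedLib.RepBy X.hom i.left h c ∧ c.FG := by
  refine ⟨SmoothWeil.secIdeal e I, fun C φ => ?_, SmoothWeil.secIdeal_fg e I hI⟩
  letI : Algebra R C := φ.hom.toAlgebra
  rw [show RingHom.ker φ.hom = RingHom.ker (algebraMap R C) from rfl, SmoothWeil.secIdeal, iSup_le_iff]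
  simp only [SmoothWeil.coeffN_le_iff]
  have hφ : CommRingCat.ofHom (algebraMap R C) = φ := rfl
  let g := Spec.map (CommRingCat.ofHom (algebraMap R C)) ≫ h
  show WeilClosedLib.FactorsOn X.hom i.left g ↔ _
  let cm := SmoothWeil.chartMap X.hom h ρ hρ C
  let proj : Spec (CommRingCat.of (C ⊗[R] B)) ⟶ Spec (CommRingCat.of B) :=
    Spec.map (CommRingCat.ofHom (Algebra.TensorProduct.includeRight : B →ₐ[R] C ⊗[R] B).toRingHom)
  let L := SmoothWeil.bcSection e C
  have hsq := isPullback_chartMap X.hom h ρ hρ C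
  have hLproj : Spec.map (CommRingCat.ofHom L.toRingHom) ≫ proj =
      Spec.map (CommRingCat.ofHom (algebraMap R C)) ≫ Spec.map (CommRingCat.ofHom (Ideal.Quotient.lift I e.toRingHom hIe)) ≫
        Spec.map (CommRingCat.ofHom (Ideal.Quotient.mk I)) := by
    rw [← Spec.map_comp, ← Spec.map_comp, ← Spec.map_comp]
    congr 1
    ext b
    show L (1 ⊗ₜ b) = algebraMap R C (e b)
    simp [L, SmoothWeil.bcSection, Algebra.ofId_apply]
  have hunitY : ∀ (W : Scheme.{u}) (w : W ⟶ Spec (CommRingCat.of C)) (l : W ⟶ Y.left),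
      l ≫ i.left = w ≫ Spec.map (CommRingCat.ofHom L.toRingHom) ≫ proj ≫ ρ →
      l ≫ Y.hom = w ≫ g → l = w ≫ g ≫ η[Y].left := by
    intro W w l h₁ h₂
    let l' : Over.mk (w ≫ g) ⟶ Y := Over.homMk l h₂
    let u' : Over.mk (w ≫ g) ⟶ Y := Over.homMk (w ≫ g ≫ η[Y].left) (by
      show (w ≫ g ≫ η[Y].left) ≫ Y.hom = w ≫ g
      simp only [Category.assoc]
      rw [Over.w η[Y]]
      exact congrArg (w ≫ ·) (Category.comp_id g))
    refine congrArg CommaMorphism.left ((cancel_mono i).1 (Over.OverMorphism.ext ?_) : l' = u')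
    show l ≫ i.left = (w ≫ g ≫ η[Y].left) ≫ i.left
    rw [h₁, ← Category.assoc (Spec.map (CommRingCat.ofHom L.toRingHom)), hLproj]
    simp only [Category.assoc]
    rw [← hκ, reassoc_of% he]
    simp only [g, Category.assoc]
  constructor
  · intro hF n x hx
    rcases eq_or_ne n 0 with rfl | hn
    · simp
    let J := RingHom.ker L ^ n
    let q := Spec.map (CommRingCat.ofHom (Ideal.Quotient.mk J))
    have hJ : J ≤ RingHom.ker L.toRingHom := Ideal.pow_le_self hn
    let σ := Spec.map (CommRingCat.ofHom (Ideal.Quotient.lift J L.toRingHom hJ))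
    have hσq : σ ≫ q = Spec.map (CommRingCat.ofHom L.toRingHom) := by rw [← Spec.map_comp]; rfl
    have hsurj : Function.Surjective σ := by
      intro P
      let P' : PrimeSpectrum ((C ⊗[R] B) ⧸ J) := P
      show P' ∈ Set.range (PrimeSpectrum.comap (Ideal.Quotient.lift J L.toRingHom hJ))
      rw [range_comap_of_surjective _ _ (Ideal.Quotient.lift_surjective_of_surjective J hJ
        (fun c => ⟨algebraMap C (C ⊗[R] B) c, L.commutes c⟩))]
      intro z hz
      obtain ⟨z, rfl⟩ := Ideal.Quotient.mk_surjective z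
      refine P'.isPrime.mem_of_pow_mem n ?_
      rw [← map_pow, Ideal.Quotient.eq_zero_iff_mem.2 (Ideal.pow_mem_pow (show z ∈ RingHom.ker L from hz) n)]
      exact zero_mem _
    obtain ⟨l, hl⟩ := hF (q ≫ cm ≫ pullback.fst _ _) (q ≫ cm ≫ pullback.snd _ _) (by
      simp only [Category.assoc]; rw [pullback.condition])
    rw [SmoothWeil.chartMap_fst] at hl
    have hlσ : σ ≫ l = g ≫ η[Y].left := by
      rw [← Category.id_comp (g ≫ η[Y].left)]
      refine hunitY _ (𝟙 _) (σ ≫ l) ?_ ?_
      · rw [Category.assoc, hl, ← Category.assoc σ, hσq, Category.id_comp]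
      · rw [Category.id_comp, Category.assoc, ← Over.w i, ← Category.assoc l, hl]
        simp only [Category.assoc]
        rw [hρ, ← Category.assoc σ, hσq]
        simp only [g, ← Spec.map_comp_assoc]
        congr 2
        ext r
        show L (1 ⊗ₜ algebraMap R B r) = algebraMap R C r
        simp [L, SmoothWeil.bcSection, Algebra.ofId_apply]
    have hr : Set.range l ⊆ Set.range κ := by
      rintro _ ⟨P, rfl⟩
      obtain ⟨P₀, rfl⟩ := hsurj P
      refine ⟨Spec.map (CommRingCat.ofHom (Ideal.Quotient.lift I e.toRingHom hIe))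
        (Spec.map (CommRingCat.ofHom (algebraMap R C)) P₀), ?_⟩
      have h1 : (σ ≫ l) P₀ = (g ≫ η[Y].left) P₀ := by rw [hlσ]
      rw [show g ≫ η[Y].left = Spec.map (CommRingCat.ofHom (algebraMap R C)) ≫
        Spec.map (CommRingCat.ofHom (Ideal.Quotient.lift I e.toRingHom hIe)) ≫ κ by
          rw [he]; simp only [g, Category.assoc]] at h1
      exact h1.symm
    let m := IsOpenImmersion.lift κ l hr
    let a₁ := m ≫ Spec.map (CommRingCat.ofHom (Ideal.Quotient.mk I))
    let a₂ := q ≫ proj
    have h12 : a₁ ≫ ρ = a₂ ≫ ρ := by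
      simp only [a₁, a₂, Category.assoc]
      rw [← hκ, IsOpenImmersion.lift_fac_assoc, hl]
    have hσ12 : σ ≫ a₁ = σ ≫ a₂ := by
      have hm : σ ≫ m = Spec.map (CommRingCat.ofHom (algebraMap R C)) ≫
          Spec.map (CommRingCat.ofHom (Ideal.Quotient.lift I e.toRingHom hIe)) := by
        rw [← cancel_mono κ, Category.assoc, IsOpenImmersion.lift_fac, hlσ, Category.assoc]
        simp only [g, Category.assoc]
        exact (congrArg (Spec.map (CommRingCat.ofHom (algebraMap R C)) ≫ ·) he).symm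
      simp only [a₁, a₂]
      rw [← Category.assoc σ, hm, ← Category.assoc σ, hσq, hLproj, Category.assoc]
    let d := pullback.lift a₁ a₂ h12
    have hd : Set.range d ⊆ Set.range (pullback.diagonal ρ) := by
      rintro _ ⟨P, rfl⟩
      obtain ⟨P₀, rfl⟩ := hsurj P
      refine ⟨(σ ≫ a₁) P₀, ?_⟩
      have hdd : (σ ≫ a₁) ≫ pullback.diagonal ρ = σ ≫ d := by
        apply pullback.hom_ext
        · simp [d]
        · simp [d, hσ12]
      exact congr($hdd P₀)
    have hfac := IsOpenImmersion.lift_fac (pullback.diagonal ρ) d hd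
    have h1 : a₁ = a₂ := by
      calc a₁ = d ≫ pullback.fst ρ ρ := (pullback.lift_fst _ _ _).symm
        _ = d ≫ pullback.snd ρ ρ := by
          conv_lhs => rw [← hfac, Category.assoc, pullback.diagonal_fst]
          conv_rhs => rw [← hfac, Category.assoc, pullback.diagonal_snd]
        _ = a₂ := pullback.lift_snd _ _ _
    have := SmoothWeil.le_ker_of_lift I
      ((Ideal.Quotient.mk J).comp (Algebra.TensorProduct.includeRight : B →ₐ[R] C ⊗[R] B).toRingHom) m
      (h1.trans (by rw [CommRingCat.ofHom_comp, Spec.map_comp])) hx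
    exact Ideal.Quotient.eq_zero_iff_mem.1 this
  · intro hc
    classical
    obtain ⟨G, rfl⟩ := hI
    choose! v hv1 hv0 using fun x (hx : x ∈ G) => SmoothWeil.exists_killer_of_forall_mem_pow (R := C) L
      (x := (1 : C) ⊗ₜ[R] x) fun n => hc n x (Ideal.subset_span hx)
    let w : C ⊗[R] B := ∏ x ∈ G, v x
    have hw1 : L w = 1 := by rw [map_prod]; exact Finset.prod_eq_one hv1
    let Bw := Localization.Away w
    let ψ : B →+* Bw := (algebraMap (C ⊗[R] B) Bw).comp
      (Algebra.TensorProduct.includeRight : B →ₐ[R] C ⊗[R] B).toRingHom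
    have hker : Ideal.span (G : Set B) ≤ RingHom.ker ψ := by
      rw [Ideal.span_le]
      intro x hx
      have h0 : w * ((1 : C) ⊗ₜ[R] x) = 0 := by
        simp only [w, ← Finset.mul_prod_erase G v hx, _root_.mul_assoc]
        rw [mul_left_comm (v x), hv0 x hx, mul_zero]
      have h1 := congrArg (algebraMap (C ⊗[R] B) Bw) h0
      rw [map_mul, map_zero] at h1
      exact ((IsLocalization.Away.algebraMap_isUnit w).mul_right_eq_zero).1 h1
    let oI : Spec (CommRingCat.of Bw) ⟶ Spec (CommRingCat.of (C ⊗[R] B)) :=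
      Spec.map (CommRingCat.ofHom (algebraMap (C ⊗[R] B) Bw))
    haveI : IsOpenImmersion oI := IsOpenImmersion.of_isLocalization w
    haveI : Etale cm := MorphismProperty.of_isPullback hsq ‹Etale ρ›
    obtain ⟨l, hl⟩ := SmoothWeil.lift_of_le_ker (Ideal.span (G : Set B)) ψ hker
    let wl : Bw →+* C := IsLocalization.Away.lift w (show IsUnit (L.toRingHom w) by
      rw [show L.toRingHom w = 1 from hw1]; exact isUnit_one)
    have hwl : ∀ z, wl (algebraMap (C ⊗[R] B) Bw z) = L z := fun z => IsLocalization.Away.lift_eq w _ z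
    have hsec : (CommRingCat.ofHom (Algebra.TensorProduct.includeLeftRingHom : C →+* C ⊗[R] B) ≫
        CommRingCat.ofHom (algebraMap (C ⊗[R] B) Bw)) ≫ CommRingCat.ofHom wl = 𝟙 (CommRingCat.of C) := by
      ext c
      exact (hwl _).trans (L.commutes c)
    refine factorsOn_of_lift i g (oI ≫ cm) (fun t => ?_) (l ≫ κ) ?_
    · refine ⟨Spec.map (CommRingCat.ofHom wl) t, ?_⟩
      have hsec' : (Spec.map (CommRingCat.ofHom wl) ≫ oI ≫ cm) ≫ pullback.snd X.hom g = 𝟙 _ := by
        simp only [Category.assoc]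
        rw [SmoothWeil.chartMap_snd, ← Spec.map_comp, ← Spec.map_comp, hsec, Spec.map_id]
      exact congr($hsec' t)
    · rw [Category.assoc, hκ, reassoc_of% hl, Category.assoc, SmoothWeil.chartMap_fst, ← Spec.map_comp_assoc]
      rfl

end Groth.Agent.SmoothGrp

end
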