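import Groth.Agent.SmoothGrp.Transporter

/-!
Normalisers and centralisers of smooth subgroups with connected fibres.
-/

set_option autoImplicit false
set_option backward.isDefEq.respectTransparency false
set_option backward.isDefEq.respectTransparency.types false
set_option linter.style.haveILetI false

universe u

open CategoryTheory CategoryTheory.Limits MonoidalCategory CartesianMonoidalCategory MonObj AlgebraicGeometry

noncomputable section

namespace Groth.Agent.SmoothGrp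

variable {S : Scheme.{u}} {G H K : Over S} [GrpObj G] [GrpObj H] [GrpObj K]

theorem lfp_of_group (i : H ⟶ G) [LocallyOfFiniteType G.hom] [LocallyOfFinitePresentation H.hom] :
    LocallyOfFinitePresentation i.left := by
  haveI : LocallyOfFinitePresentation (i.left ≫ G.hom) := by rw [Over.w]; infer_instance
  exact FlatLocus.locallyOfFinitePresentation_of_comp (f := i.left) (g := G.hom)

/-- The transporter of `i` into `j` under conjugation. -/
theorem exists_transporter [Smooth H.hom] [GeometricallyIrreducible H.hom] (i : H ⟶ G) [IsMonHom i]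
    (j : K ⟶ G) [IsMonHom j] [Mono j] [LocallyOfFinitePresentation j.left] :
    ∃ (T : Over S) (t : T ⟶ G), IsClosedImmersion t.left ∧ LocallyOfFinitePresentation t.left ∧
      ∀ (S' : Over S) (g : S' ⟶ G), (∃ z : S' ⟶ T, z ≫ t = g) ↔
        ∀ (S'' : Over S) (s : S'' ⟶ S') (x : S'' ⟶ H), ∃ κ : S'' ⟶ K, (s ≫ g) * (x ≫ i) * (s ≫ g)⁻¹ = κ ≫ j := by
  obtain ⟨T, t, ht, hfp, hT⟩ := exists_transporter_mono (fst G H * (snd G H ≫ i) * (fst G H)⁻¹)
    (fun W g a b => by simp [MonObj.comp_mul, MonObj.mul_comp, GrpObj.comp_inv]) j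
  refine ⟨T, t, ht, hfp, fun S' g => (hT S' g).trans (forall₃_congr fun S'' s x => ?_)⟩
  simp [MonObj.comp_mul, GrpObj.comp_inv]

/-- The transporter of `i` into `j` under inverse conjugation. -/
theorem exists_transporter' [Smooth H.hom] [GeometricallyIrreducible H.hom] (i : H ⟶ G) [IsMonHom i]
    (j : K ⟶ G) [IsMonHom j] [Mono j] [LocallyOfFinitePresentation j.left] :
    ∃ (T : Over S) (t : T ⟶ G), IsClosedImmersion t.left ∧ LocallyOfFinitePresentation t.left ∧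
      ∀ (S' : Over S) (g : S' ⟶ G), (∃ z : S' ⟶ T, z ≫ t = g) ↔
        ∀ (S'' : Over S) (s : S'' ⟶ S') (x : S'' ⟶ H), ∃ κ : S'' ⟶ K, (s ≫ g)⁻¹ * (x ≫ i) * (s ≫ g) = κ ≫ j := by
  obtain ⟨T, t, ht, hfp, hT⟩ := exists_transporter_mono ((fst G H)⁻¹ * (snd G H ≫ i) * fst G H)
    (fun W g a b => by simp [MonObj.comp_mul, MonObj.mul_comp, GrpObj.comp_inv]; group) j
  refine ⟨T, t, ht, hfp, fun S' g => (hT S' g).trans (forall₃_congr fun S'' s x => ?_)⟩
  simp [MonObj.comp_mul, GrpObj.comp_inv]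

theorem exists_normalizer [LocallyOfFiniteType G.hom] [Smooth H.hom] [GeometricallyIrreducible H.hom]
    (h : H ⟶ G) [IsMonHom h] [Mono h] :
    ∃ (N : Over S) (_ : GrpObj N) (n : N ⟶ G), Red.IsNormalizerOf h n ∧ IsClosedImmersion n.left ∧
      LocallyOfFinitePresentation n.left := by
  haveI := lfp_of_group h
  obtain ⟨T₁, t₁, ht₁, hl₁, hT₁⟩ := exists_transporter h h
  obtain ⟨T₂, t₂, ht₂, hl₂, hT₂⟩ := exists_transporter' h h
  obtain ⟨N, l, hl, hlfp, hE⟩ := WeilClosedLib.exists_closed_preimage t₁ t₂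
  let n := l ≫ t₁
  haveI := hlfp hl₂
  haveI : IsClosedImmersion n.left := inferInstanceAs (IsClosedImmersion (l.left ≫ t₁.left))
  haveI : LocallyOfFinitePresentation n.left := inferInstanceAs (LocallyOfFinitePresentation (l.left ≫ t₁.left))
  let Q : ∀ (S' : Over S), (S' ⟶ G) → Prop := fun S' g => ∀ (S'' : Over S) (s : S'' ⟶ S') (x : S'' ⟶ H),
      (∃ x' : S'' ⟶ H, (s ≫ g) * (x ≫ h) * (s ≫ g)⁻¹ = x' ≫ h) ∧
      (∃ x' : S'' ⟶ H, (s ≫ g)⁻¹ * (x ≫ h) * (s ≫ g) = x' ≫ h)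
  have key : ∀ (S' : Over S) (g : S' ⟶ G), (∃ z : S' ⟶ N, z ≫ n = g) ↔ Q S' g := fun S' g => by
    constructor
    · rintro ⟨z, rfl⟩ S'' s x
      obtain ⟨w, hw⟩ := (hE S' (z ≫ l)).1 ⟨z, rfl⟩
      exact ⟨(hT₁ _ _).1 ⟨z ≫ l, by rw [Category.assoc]⟩ S'' s x,
        (hT₂ _ _).1 ⟨w, by rw [← hw, Category.assoc]⟩ S'' s x⟩
    · intro hg
      obtain ⟨z₁, rfl⟩ := (hT₁ _ _).2 fun S'' s x => (hg S'' s x).1
      obtain ⟨z₂, hz₂⟩ := (hT₂ _ _).2 fun S'' s x => (hg S'' s x).2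
      obtain ⟨z, hz⟩ := (hE S' z₁).2 ⟨z₂, hz₂.symm⟩
      exact ⟨z, by rw [← hz, Category.assoc]⟩
  haveI : Mono n := ⟨fun a b e => Over.OverMorphism.ext ((cancel_mono n.left).1 (congrArg CommaMorphism.left e))⟩
  obtain ⟨str, hmon⟩ := WeilClosedLib.exists_grpObj_of_closed n
    ((key _ η[G]).2 fun S'' s x => by
      have e : s ≫ η[G] = 1 := by rw [Hom.one_def, toUnit_unique s (toUnit _)]
      exact ⟨⟨x, by simp [e]⟩, ⟨x, by simp [e]⟩⟩)
    (fun W a b => (key W ((a ≫ n) * (b ≫ n))).2 fun S'' s x => by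
      have qa := (key W (a ≫ n)).1 ⟨a, rfl⟩
      have qb := (key W (b ≫ n)).1 ⟨b, rfl⟩
      refine ⟨?_, ?_⟩
      · obtain ⟨x₁, h₁⟩ := (qb S'' s x).1
        obtain ⟨x₂, h₂⟩ := (qa S'' s x₁).1
        refine ⟨x₂, ?_⟩
        rw [← h₂, ← h₁, MonObj.comp_mul]
        group
      · obtain ⟨x₁, h₁⟩ := (qa S'' s x).2
        obtain ⟨x₂, h₂⟩ := (qb S'' s x₁).2
        refine ⟨x₂, ?_⟩
        rw [← h₂, ← h₁, MonObj.comp_mul]
        group)
    (fun W a => (key W (a ≫ n)⁻¹).2 fun S'' s x => by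
      have qa := (key W (a ≫ n)).1 ⟨a, rfl⟩
      simp only [GrpObj.comp_inv, inv_inv]
      exact ⟨(qa S'' s x).2, (qa S'' s x).1⟩)
  exact ⟨N, str, n, ⟨hmon, inferInstance, key⟩, inferInstance, inferInstance⟩

theorem exists_centralizer [LocallyOfFiniteType G.hom] [Smooth H.hom] [GeometricallyIrreducible H.hom]
    (h : H ⟶ G) [IsMonHom h] :
    ∃ (Z : Over S) (_ : GrpObj Z) (z : Z ⟶ G), Red.IsCentralizerOf h z ∧ IsClosedImmersion z.left ∧
      LocallyOfFinitePresentation z.left := by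
  obtain ⟨E, jE, hjE, -, hlfp, hE⟩ := WeilClosedLib.exists_immersion_equalizer
    (fst G H * (snd G H ≫ h)) ((snd G H ≫ h) * fst G H)
  haveI := hlfp inferInstance
  haveI : Mono jE := (Over.forget S).mono_of_mono_map (inferInstanceAs (Mono jE.left))
  have hE' : ∀ (W : Over S) (g : W ⟶ G) (a : W ⟶ H),
      (∃ l : W ⟶ E, l ≫ jE = lift g a) ↔ g * (a ≫ h) = (a ≫ h) * g := fun W g a => by
    rw [hE]; simp [MonObj.comp_mul]
  obtain ⟨T, t, ht, hfp, hT⟩ := exists_closed_forall_subgroup jE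
    (fun W g => (hE' _ _ _).2 (by simp [MonObj.one_comp]))
    (fun W g a b ha hb => (hE' _ _ _).2 (by
      rw [MonObj.mul_comp]; exact Commute.mul_right ((hE' _ _ _).1 ha) ((hE' _ _ _).1 hb)))
    (fun W g a ha => (hE' _ _ _).2 (by
      rw [GrpObj.inv_comp]; exact Commute.inv_right ((hE' _ _ _).1 ha)))
  let Q : ∀ (S' : Over S), (S' ⟶ G) → Prop := fun S' g => ∀ (S'' : Over S) (s : S'' ⟶ S') (x : S'' ⟶ H),
      Commute (s ≫ g) (x ≫ h)
  have key : ∀ (S' : Over S) (g : S' ⟶ G), (∃ z : S' ⟶ T, z ≫ t = g) ↔ Q S' g := fun S' g =>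
    (hT S' g).trans (forall₃_congr fun S'' s x => hE' _ _ _)
  haveI : Mono t := ⟨fun a b e => Over.OverMorphism.ext ((cancel_mono t.left).1 (congrArg CommaMorphism.left e))⟩
  obtain ⟨str, hmon⟩ := WeilClosedLib.exists_grpObj_of_closed t
    ((key _ η[G]).2 fun S'' s x => by
      rw [show s ≫ η[G] = 1 by rw [Hom.one_def, toUnit_unique s (toUnit _)]]
      exact Commute.one_left _)
    (fun W a b => (key W ((a ≫ t) * (b ≫ t))).2 fun S'' s x => by
      rw [MonObj.comp_mul]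
      exact Commute.mul_left ((key W _).1 ⟨a, rfl⟩ S'' s x) ((key W _).1 ⟨b, rfl⟩ S'' s x))
    (fun W a => (key W (a ≫ t)⁻¹).2 fun S'' s x => by
      rw [GrpObj.comp_inv]
      exact Commute.inv_left ((key W _).1 ⟨a, rfl⟩ S'' s x))
  exact ⟨T, str, t, ⟨hmon, inferInstance, key⟩, ht, hfp⟩

end Groth.Agent.SmoothGrp

end
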