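import Groth.Agent.SmoothGrp.Chart
import Groth.Agent.WeilClosedLib.Global
import Groth.Agent.FlatLocus.FibreCrit
import Groth.Agent.MonoFibre.Connected
import Mathlib.RingTheory.Unramified.LocalStructure

/-!
A monomorphism into a smooth group with connected fibres is an isomorphism exactly over a closed subscheme.
-/

set_option autoImplicit false
set_option backward.isDefEq.respectTransparency false
set_option backward.isDefEq.respectTransparency.types false
set_option linter.style.haveILetI false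

universe u

open CategoryTheory CategoryTheory.Limits MonoidalCategory CartesianMonoidalCategory MonObj AlgebraicGeometry TensorProduct

noncomputable section

namespace Groth.Agent.SmoothGrp

/-- An etale chart of a monomorphism locally of finite presentation around a point. -/
theorem exists_chart {S : Scheme.{u}} {X Y : Scheme.{u}} (f : X ⟶ S) [Smooth f] (i : Y ⟶ X) [FormallyUnramified i]
    [LocallyOfFinitePresentation i] {U : S.Opens} (hU : IsAffineOpen U) (y : Y) (hy : f (i y) ∈ U) :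
    ∃ (B : Type u) (_ : CommRing B) (_ : Algebra Γ(S, U) B) (_ : Algebra.Smooth Γ(S, U) B) (I : Ideal B)
      (ρ : Spec (CommRingCat.of B) ⟶ X) (κ : Spec (CommRingCat.of (B ⧸ I)) ⟶ Y),
      I.FG ∧ Etale ρ ∧ IsOpenImmersion κ ∧ y ∈ Set.range κ ∧
      ρ ≫ f = Spec.map (CommRingCat.ofHom (algebraMap Γ(S, U) B)) ≫ hU.fromSpec ∧
      κ ≫ i = Spec.map (CommRingCat.ofHom (Ideal.Quotient.mk I)) ≫ ρ := by
  obtain ⟨W, hW, hyW, hWU⟩ := exists_isAffineOpen_mem_and_subset (x := i y) (U := f ⁻¹ᵁ U) hy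
  obtain ⟨V, hV, hyV, hVW⟩ := exists_isAffineOpen_mem_and_subset (x := y) (U := i ⁻¹ᵁ W) hyW
  let R := Γ(S, U)
  let A₀ := Γ(X, W)
  let A := Γ(Y, V)
  letI : Algebra R A₀ := (f.appLE U W hWU).hom.toAlgebra
  letI : Algebra A₀ A := (i.appLE W V hVW).hom.toAlgebra
  have hv : hV.fromSpec ≫ i = Spec.map (CommRingCat.ofHom (algebraMap A₀ A)) ≫ hW.fromSpec :=
    (IsAffineOpen.SpecMap_appLE_fromSpec i hW hV hVW).symm
  have hw : hW.fromSpec ≫ f = Spec.map (CommRingCat.ofHom (algebraMap R A₀)) ≫ hU.fromSpec :=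
    (IsAffineOpen.SpecMap_appLE_fromSpec f hU hW hWU).symm
  haveI : Algebra.Smooth R A₀ := RingHom.smooth_algebraMap.1
    (HasRingHomProperty.appLE (P := @Smooth) f ‹_› ⟨U, hU⟩ ⟨W, hW⟩ hWU)
  haveI : Algebra.FormallyUnramified A₀ A :=
    HasRingHomProperty.appLE (P := @FormallyUnramified) i ‹_› ⟨W, hW⟩ ⟨V, hV⟩ hVW
  haveI : Algebra.FinitePresentation A₀ A := RingHom.finitePresentation_algebraMap.1
    (HasRingHomProperty.appLE (P := @LocallyOfFinitePresentation) i ‹_› ⟨W, hW⟩ ⟨V, hV⟩ hVW)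
  let q := hV.primeIdealOf ⟨y, hyV⟩
  obtain ⟨g, hg, Pr, φ, hφ⟩ := Algebra.IsUnramifiedAt.exists_hasStandardEtaleSurjectionOn (R := A₀) q.asIdeal
  let B := Pr.Ring
  haveI : Algebra.Etale A₀ B := inferInstanceAs (Algebra.Etale A₀ Pr.Ring)
  letI : Algebra R B := ((algebraMap A₀ B).comp (algebraMap R A₀)).toAlgebra
  haveI : IsScalarTower R A₀ B := IsScalarTower.of_algebraMap_eq fun _ => rfl
  haveI : Algebra.Smooth R B := Algebra.Smooth.comp R A₀ B
  let θ : (B ⧸ RingHom.ker φ) ≃+* Localization.Away g := RingHom.quotientKerEquivOfSurjective (f := φ.toRingHom) hφ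
  haveI : IsIso (CommRingCat.ofHom θ.toRingHom) := θ.toCommRingCatIso.isIso_hom
  haveI : IsIso (CommRingCat.ofHom θ.symm.toRingHom) := θ.symm.toCommRingCatIso.isIso_hom
  let ρ := Spec.map (CommRingCat.ofHom (algebraMap A₀ B)) ≫ hW.fromSpec
  let κ : Spec (CommRingCat.of (B ⧸ RingHom.ker φ)) ⟶ Y := Spec.map (CommRingCat.ofHom θ.symm.toRingHom) ≫
    Spec.map (CommRingCat.ofHom (algebraMap A (Localization.Away g))) ≫ hV.fromSpec
  haveI : IsOpenImmersion (Spec.map (CommRingCat.ofHom (algebraMap A (Localization.Away g)))) :=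
    IsOpenImmersion.of_isLocalization g
  haveI : Algebra.FinitePresentation A (Localization.Away g) := IsLocalization.Away.finitePresentation g
  haveI : Algebra.FinitePresentation A₀ (Localization.Away g) := Algebra.FinitePresentation.trans A₀ A (Localization.Away g)
  refine ⟨B, inferInstance, inferInstance, inferInstance, RingHom.ker φ, ρ, κ,
    Algebra.FinitePresentation.ker_fG_of_surjective φ hφ, ?_, inferInstance, ?_, ?_, ?_⟩
  · haveI : Etale (Spec.map (CommRingCat.ofHom (algebraMap A₀ B))) :=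
      (HasRingHomProperty.Spec_iff (P := @Etale)).2 (RingHom.etale_algebraMap.2 inferInstance)
    infer_instance
  · obtain ⟨p, hp⟩ : q ∈ Set.range (PrimeSpectrum.comap (algebraMap A (Localization.Away g))) := by
      rw [PrimeSpectrum.localization_away_comap_range (Localization.Away g) g]; exact hg
    refine ⟨inv (Spec.map (CommRingCat.ofHom θ.symm.toRingHom)) p, ?_⟩
    have : κ (inv (Spec.map (CommRingCat.ofHom θ.symm.toRingHom)) p) = hV.fromSpec q := by
      simp only [κ]
      rw [← Scheme.Hom.comp_apply, IsIso.inv_hom_id_assoc, Scheme.Hom.comp_apply]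
      exact congrArg hV.fromSpec hp
    rw [this]
    exact hV.fromSpec_primeIdealOf ⟨y, hyV⟩
  · simp only [ρ, Category.assoc, hw, ← Spec.map_comp_assoc]
    rfl
  · simp only [κ, ρ, Category.assoc, hv, ← Spec.map_comp_assoc]
    congr 2
    ext a
    show θ.symm (algebraMap A (Localization.Away g) (algebraMap A₀ A a)) = Ideal.Quotient.mk _ (algebraMap A₀ B a)
    apply θ.injective
    rw [RingEquiv.apply_symm_apply, ← IsScalarTower.algebraMap_apply]
    exact (φ.commutes a).symm

/-- Where a monomorphism of groups into a smooth group with connected fibres is an isomorphism. -/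
theorem exists_closed_iso {S : Scheme.{u}} {X Y : Over S} [GrpObj X] [GrpObj Y] (i : Y ⟶ X) [IsMonHom i] [Mono i]
    [Smooth X.hom] [GeometricallyIrreducible X.hom] [LocallyOfFinitePresentation Y.hom] :
    ∃ (T : Scheme.{u}) (t : T ⟶ S), IsClosedImmersion t ∧ LocallyOfFinitePresentation t ∧
      ∀ (S' : Scheme.{u}) (g : S' ⟶ S), (∃ g' : S' ⟶ T, g' ≫ t = g) ↔ WeilClosedLib.FactorsOn X.hom i.left g := by
  haveI : Mono i.left := (Over.forget S).map_mono i
  haveI : LocallyOfFinitePresentation (i.left ≫ X.hom) := by rw [Over.w]; infer_instance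
  haveI : LocallyOfFinitePresentation i.left :=
    FlatLocus.locallyOfFinitePresentation_of_comp (f := i.left) (g := X.hom)
  haveI : IsIso (pullback.diagonal i.left) := inferInstance
  haveI : FormallyUnramified i.left := inferInstance
  suffices h : ∀ s : S, ∃ (U : S.Opens) (hU : IsAffineOpen U) (c : Ideal Γ(S, U)),
      s ∈ U ∧ WeilClosedLib.RepBy X.hom i.left hU.fromSpec c ∧ (True → c.FG) by
    obtain ⟨T, t, ht, hT, hfp⟩ := WeilClosedLib.exists_closed_rep h
    exact ⟨T, t, ht, hfp trivial, hT⟩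
  intro s
  let eY : S ⟶ Y.left := η[Y].left
  have heY : eY ≫ Y.hom = 𝟙 S := Over.w η[Y]
  obtain ⟨U, hU, hsU, -⟩ := exists_isAffineOpen_mem_and_subset (x := s) (U := ⊤) trivial
  obtain ⟨B₀, _, _, _, I₀, ρ₀, κ₀, hI₀, hρ₀, hκ₀, hsκ, hρ, hκ⟩ := exists_chart X.hom i.left hU (eY s) (by
    rw [← Scheme.Hom.comp_apply, Over.w i, ← Scheme.Hom.comp_apply, heY]; exact hsU)
  obtain ⟨r, hr, hsr⟩ := hU.exists_basicOpen_le (V := eY ⁻¹ᵁ κ₀.opensRange) ⟨s, hsκ⟩ hsU
  let U' := S.basicOpen r
  have hU' : IsAffineOpen U' := hU.basicOpen r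
  let R := Γ(S, U)
  let R' := Γ(S, U')
  letI : Algebra R R' := (S.presheaf.map (homOfLE (S.basicOpen_le r)).op).hom.toAlgebra
  haveI : IsLocalization.Away r R' := hU.isLocalization_basicOpen r
  have hjj : Spec.map (CommRingCat.ofHom (algebraMap R R')) ≫ hU.fromSpec = hU'.fromSpec := hU.map_fromSpec hU' _
  let B := R' ⊗[R] B₀
  let pr : Spec (CommRingCat.of B) ⟶ Spec (CommRingCat.of B₀) :=
    Spec.map (CommRingCat.ofHom (Algebra.TensorProduct.includeRight : B₀ →ₐ[R] B).toRingHom)
  haveI : IsOpenImmersion (Spec.map (CommRingCat.ofHom (algebraMap R R'))) := IsOpenImmersion.of_isLocalization r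
  have sq : IsPullback pr (Spec.map (CommRingCat.ofHom (Algebra.TensorProduct.includeLeftRingHom : R' →+* B)))
      (Spec.map (CommRingCat.ofHom (algebraMap R B₀))) (Spec.map (CommRingCat.ofHom (algebraMap R R'))) :=
    (isPullback_SpecMap_of_isPushout _ _ _ _ (CommRingCat.isPushout_tensorProduct R R' B₀)).flip
  haveI : IsOpenImmersion pr := MorphismProperty.of_isPullback (P := @IsOpenImmersion) sq.flip inferInstance
  let q₀ := Spec.map (CommRingCat.ofHom (Ideal.Quotient.mk I₀))
  haveI : IsClosedImmersion q₀ := IsClosedImmersion.spec_of_surjective _ Ideal.Quotient.mk_surjective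
  haveI : LocallyOfFinitePresentation q₀ := (HasRingHomProperty.Spec_iff (P := @LocallyOfFinitePresentation)).2
    (RingHom.FinitePresentation.of_surjective _ Ideal.Quotient.mk_surjective (by simpa [CommRingCat.hom_ofHom, Ideal.mk_ker] using hI₀))
  obtain ⟨I, θ, hθ⟩ := IsClosedImmersion.Spec_iff.1 (inferInstance : IsClosedImmersion (pullback.snd q₀ pr))
  let κ : Spec (CommRingCat.of (B ⧸ I)) ⟶ Y.left := θ.inv ≫ pullback.fst q₀ pr ≫ κ₀
  have hκ' : κ ≫ i.left = Spec.map (CommRingCat.ofHom (Ideal.Quotient.mk I)) ≫ pr ≫ ρ₀ := by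
    simp only [κ, Category.assoc]
    rw [hκ, pullback.condition_assoc, hθ]
    simp
  have hI : I.FG := by
    have h1 : LocallyOfFinitePresentation (Spec.map (CommRingCat.ofHom (Ideal.Quotient.mk I))) := by
      rw [show Spec.map (CommRingCat.ofHom (Ideal.Quotient.mk I)) = θ.inv ≫ pullback.snd q₀ pr by
        rw [hθ, Iso.inv_hom_id_assoc]]
      infer_instance
    rw [HasRingHomProperty.Spec_iff (P := @LocallyOfFinitePresentation)] at h1
    haveI : Algebra.FinitePresentation B (B ⧸ I) := RingHom.finitePresentation_algebraMap.1 (by exact h1)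
    have h2 := Algebra.FinitePresentation.ker_fG_of_surjective (Algebra.ofId B (B ⧸ I))
      Ideal.Quotient.mk_surjective
    rwa [show RingHom.ker (Algebra.ofId B (B ⧸ I)).toRingHom = I from Ideal.mk_ker] at h2
  have hρ' : (pr ≫ ρ₀) ≫ X.hom = Spec.map (CommRingCat.ofHom (algebraMap R' B)) ≫ hU'.fromSpec := by
    rw [Category.assoc, hρ, ← Category.assoc, sq.w, Category.assoc, hjj]
    rfl
  have hrange : Set.range (hU'.fromSpec ≫ eY) ⊆ Set.range κ₀ := by
    rintro _ ⟨p, rfl⟩
    exact hr (hU'.range_fromSpec.subset ⟨p, rfl⟩)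
  let σ₀ := IsOpenImmersion.lift κ₀ (hU'.fromSpec ≫ eY) hrange
  have hσ₀ : σ₀ ≫ κ₀ = hU'.fromSpec ≫ eY := IsOpenImmersion.lift_fac _ _ _
  have hover : (σ₀ ≫ q₀) ≫ Spec.map (CommRingCat.ofHom (algebraMap R B₀)) =
      𝟙 _ ≫ Spec.map (CommRingCat.ofHom (algebraMap R R')) := by
    rw [← cancel_mono hU.fromSpec]
    simp only [Category.assoc]
    rw [← hρ, hjj, ← Category.assoc q₀, ← hκ]
    simp only [Category.assoc]
    rw [Over.w i, reassoc_of% hσ₀, heY, Category.comp_id]
    exact (Category.id_comp _).symm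
  let τ := sq.lift (σ₀ ≫ q₀) (𝟙 _) hover
  let σ := pullback.lift σ₀ τ (sq.lift_fst _ _ _).symm ≫ θ.hom
  have hσpr : σ ≫ Spec.map (CommRingCat.ofHom (Ideal.Quotient.mk I)) = τ := by
    simp only [σ, Category.assoc]
    rw [← hθ, pullback.lift_snd]
  let eb := Spec.preimage σ
  let e : B →ₐ[R'] R' :=
    { toRingHom := eb.hom.comp (Ideal.Quotient.mk I)
      commutes' := fun a => by
        have h1 : τ ≫ Spec.map (CommRingCat.ofHom (Algebra.TensorProduct.includeLeftRingHom : R' →+* B)) = 𝟙 _ :=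
          sq.lift_snd _ _ _
        rw [← hσpr, ← Spec.map_preimage σ, ← Spec.map_comp, ← Spec.map_comp, ← Spec.map_id] at h1
        exact congr($(Spec.map_injective h1).hom a) }
  have hIe : I ≤ RingHom.ker e := fun x hx => by
    show eb.hom (Ideal.Quotient.mk I x) = 0
    rw [Ideal.Quotient.eq_zero_iff_mem.2 hx, map_zero]
  haveI : Etale (pr ≫ ρ₀) := by haveI := hρ₀; infer_instance
  haveI : IsOpenImmersion κ := by haveI := hκ₀; infer_instance
  obtain ⟨c, hc, hfg⟩ := repBy_of_chart i hU'.fromSpec B e I hI (pr ≫ ρ₀) hρ' κ hκ' hIe (by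
    have : CommRingCat.ofHom (Ideal.Quotient.lift I e.toRingHom hIe) = eb := by
      apply CommRingCat.hom_ext
      exact Ideal.Quotient.ringHom_ext rfl
    rw [this, Spec.map_preimage]
    simp only [σ, κ, Category.assoc, Iso.hom_inv_id_assoc]
    rw [pullback.lift_fst_assoc, hσ₀])
  exact ⟨U', hU', c, hsr, hc, fun _ => hfg⟩

theorem geometricallyIrreducible_of_connected_fibres {S : Scheme.{u}} {X : Over S} [GrpObj X] [Smooth X.hom]
    (hconn : ∀ s : S, ConnectedSpace ↥(pullback X.hom (S.fromSpecResidueField s))) :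
    GeometricallyIrreducible X.hom := by
  haveI := MonoFibre.geometricallyConnected_of_connected_fibres X.hom η[X].left (Over.w η[X]) hconn
  exact SmoothWeil.geometricallyIrreducible_of_connected_geomFibres X.hom fun s =>
    GeometricallyConnected.geometrically_connectedSpace _ _ _ (IsPullback.of_hasPullback X.hom _)

end Groth.Agent.SmoothGrp

end
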