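import Groth.Agent.S3015
import Groth.Agent.GrpSchLib.Basic
import Groth.Agent.FlatLocus.FibreCrit

/-!
Products of two copies of a fibrewise dense flat cover of part of a group cover the group.
-/

set_option autoImplicit false
set_option backward.isDefEq.respectTransparency false
set_option linter.style.haveILetI false

universe u

open CategoryTheory CategoryTheory.Limits MonoidalCategory CartesianMonoidalCategory MonObj AlgebraicGeometry

noncomputable section

namespace Groth.Agent.SmoothGrp

/-- `(x, y) ↦ f x * f y` is flat, locally of finite presentation and surjective. -/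
theorem mul_cover {S : Scheme.{u}} {G X : Over S} [GrpObj G] [Flat G.hom] [LocallyOfFinitePresentation G.hom]
    (f : X ⟶ G) [Flat f.left] [LocallyOfFinitePresentation f.left]
    (hd : ∀ s : S, Dense (pullback.fst G.hom (S.fromSpecResidueField s) ⁻¹' Set.range f.left)) :
    Flat ((f ⊗ₘ f) ≫ μ[G]).left ∧ LocallyOfFinitePresentation ((f ⊗ₘ f) ≫ μ[G]).left ∧
      Surjective ((f ⊗ₘ f) ≫ μ[G]).left := by
  have hG : Flat μ[G].left := by
    have h := GrpSchLib.flat_mulMap (𝟙 G) ‹Flat G.hom›
    rwa [id_whiskerRight, Category.id_comp] at h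
  haveI := hG
  haveI : LocallyOfFinitePresentation (G ⊗ G).hom :=
    inferInstanceAs (LocallyOfFinitePresentation (pullback.fst G.hom G.hom ≫ G.hom))
  haveI : LocallyOfFinitePresentation (μ[G].left ≫ G.hom) := by rw [Over.w]; infer_instance
  haveI : LocallyOfFinitePresentation μ[G].left :=
    FlatLocus.locallyOfFinitePresentation_of_comp (f := μ[G].left) (g := G.hom)
  have hli : (f ⊗ₘ f).left = pullback.map X.hom X.hom G.hom G.hom f.left f.left (𝟙 S) (by simp) (by simp) := by
    apply pullback.hom_ext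
    · rw [pullback.lift_fst]; exact congrArg CommaMorphism.left (tensorHom_fst f f)
    · rw [pullback.lift_snd]; exact congrArg CommaMorphism.left (tensorHom_snd f f)
  haveI : Flat (f ⊗ₘ f).left := by
    rw [hli]
    exact MorphismProperty.pullbackMap (P := @Flat) ‹Flat f.left› ‹Flat f.left› (Over.w f).symm (Over.w f).symm
  haveI : LocallyOfFinitePresentation (f ⊗ₘ f).left := by
    rw [hli]
    exact MorphismProperty.pullbackMap (P := @LocallyOfFinitePresentation) ‹LocallyOfFinitePresentation f.left›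
      ‹LocallyOfFinitePresentation f.left› (Over.w f).symm (Over.w f).symm
  refine ⟨inferInstanceAs (Flat ((f ⊗ₘ f).left ≫ μ[G].left)),
    inferInstanceAs (LocallyOfFinitePresentation ((f ⊗ₘ f).left ≫ μ[G].left)), ⟨fun x => ?_⟩⟩
  let U : G.left.Opens := ⟨Set.range f.left, f.left.isOpenMap.isOpen_range⟩
  let s : S := G.hom x
  let j := S.fromSpecResidueField s
  let F := Over.pullback j
  let p := pullback.fst G.hom j
  obtain ⟨x', hx⟩ : x ∈ Set.range p := (G.hom.range_fiberι s).ge rfl
  obtain ⟨z, hz1, hz2, hz3⟩ := S3015.mul_dense (K := S.residueField s) (Red.bc j G) (p ⁻¹' (U : Set G.left))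
    (p ⁻¹' (U : Set G.left)) (U.2.preimage p.continuous) (U.2.preimage p.continuous) (hd s) (hd s) x'
  let w : (Red.bc j G ⊗ Red.bc j G).left ⟶ (G ⊗ G).left :=
    (Functor.LaxMonoidal.μ F G G).left ≫ pullback.fst (G ⊗ G).hom j
  have hw : ∀ (h : G ⊗ G ⟶ G), w ≫ h.left = (Functor.LaxMonoidal.μ F G G ≫ F.map h).left ≫ p := fun h => by
    rw [Over.comp_left, Category.assoc, Category.assoc,
      show (F.map h).left ≫ p = pullback.fst (G ⊗ G).hom j ≫ h.left from pullback.lift_fst _ _ _]
  have h1 : (w ≫ (fst G G).left) z ∈ U := by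
    rw [hw, show Functor.LaxMonoidal.μ F G G ≫ F.map (fst G G) = fst (F.obj G) (F.obj G) by simp]
    exact hz1
  have h2 : (w ≫ (snd G G).left) z ∈ U := by
    rw [hw, show Functor.LaxMonoidal.μ F G G ≫ F.map (snd G G) = snd (F.obj G) (F.obj G) by simp]
    exact hz2
  obtain ⟨v, hv⟩ : w z ∈ Set.range (f ⊗ₘ f).left := by
    rw [hli]
    exact (Scheme.Pullback.range_map _ _ _ _ f.left f.left (𝟙 S) (by simp) (by simp)).ge ⟨h1, h2⟩
  refine ⟨v, ?_⟩
  rw [Over.comp_left, Scheme.Hom.comp_apply, hv, ← Scheme.Hom.comp_apply, hw, Scheme.Hom.comp_apply]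
  exact (congrArg p hz3).trans hx

/-- An open containing the maximal points of a fibre is dense in it. -/
theorem dense_fibre {S Z : Scheme.{u}} (g : Z ⟶ S) (s : S) {U : Set Z} (hU : IsOpen U)
    (hmax : ∀ z : ↥(g.base ⁻¹' {s}), closure {z} ∈ irreducibleComponents ↥(g.base ⁻¹' {s}) → z.1 ∈ U) :
    Dense (pullback.fst g (S.fromSpecResidueField s) ⁻¹' U) := by
  rw [dense_iff_inter_open]
  rintro O hO ⟨y, hy⟩
  obtain ⟨ξ, hη⟩ := QuasiSober.sober (isIrreducible_irreducibleComponent (x := y)) isClosed_irreducibleComponent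
  refine ⟨ξ, (hη.specializes mem_irreducibleComponent).mem_open hO hy, ?_⟩
  let θ := g.fiberHomeo s
  have hc : closure {θ ξ} ∈ irreducibleComponents ↥(g.base ⁻¹' {s}) := by
    rw [← Set.image_singleton, ← θ.image_closure, hη]
    refine ⟨isIrreducible_irreducibleComponent.image _ θ.continuous.continuousOn, fun t ht hle => ?_⟩
    have h := (irreducibleComponent_mem_irreducibleComponents y).2 (ht.image _ θ.symm.continuous.continuousOn)
      fun a ha => ⟨θ a, hle ⟨a, ha, rfl⟩, θ.symm_apply_apply a⟩
    intro a ha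
    exact ⟨θ.symm a, h ⟨a, ha, rfl⟩, θ.apply_symm_apply a⟩
  exact hmax _ hc

end Groth.Agent.SmoothGrp

end
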