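import Groth.Agent.SmoothGrp.MonoRep
import Groth.Agent.FixedSmooth.Split
import Groth.Agent.WeilClosedLib.Transporter
import Groth.Agent.WeilClosedLib.Equalizer

/-!
Transporters of smooth subgroups with connected fibres.
-/

set_option autoImplicit false
set_option backward.isDefEq.respectTransparency false
set_option backward.isDefEq.respectTransparency.types false
set_option linter.style.haveILetI false

universe u

open CategoryTheory CategoryTheory.Limits MonoidalCategory CartesianMonoidalCategory MonObj AlgebraicGeometry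

noncomputable section

namespace Groth.Agent.SmoothGrp

open WeilClosedLib (FactorsOn)

theorem factorsOn_iso_iff {S Z Z' Y T : Scheme.{u}} (e : Z' ≅ Z) (f : Z ⟶ S) (j : Y ⟶ Z') (g : T ⟶ S) :
    FactorsOn (e.hom ≫ f) j g ↔ FactorsOn f (j ≫ e.hom) g := by
  constructor
  · intro h W a b w
    obtain ⟨l, hl⟩ := h (a ≫ e.inv) b (by simpa using w)
    exact ⟨l, by rw [reassoc_of% hl]; simp⟩
  · intro h W a b w
    obtain ⟨l, hl⟩ := h (a ≫ e.hom) b (by simpa using w)
    exact ⟨l, by rw [← cancel_mono e.hom, Category.assoc, hl]⟩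

variable {S : Scheme.{u}}

/-- From the representability of the locus to points. -/
theorem exists_forall_of_rep {G X E : Over S} (jE : E ⟶ G ⊗ X) {T : Scheme.{u}} (t : T ⟶ G.left)
    (hrep : ∀ (S' : Scheme.{u}) (g : S' ⟶ G.left), (∃ g' : S' ⟶ T, g' ≫ t = g) ↔ FactorsOn (fst G X).left jE.left g) :
    ∀ (S' : Over S) (g : S' ⟶ G), (∃ z : S' ⟶ Over.mk (t ≫ G.hom), z ≫ Over.homMk t rfl = g) ↔
        ∀ (S'' : Over S) (s : S'' ⟶ S') (x : S'' ⟶ X), ∃ l : S'' ⟶ E, l ≫ jE = lift (s ≫ g) x := by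
  intro S' g
  constructor
  · rintro ⟨z, rfl⟩ S'' s x
    obtain ⟨l, hl⟩ := (hrep _ (z ≫ (Over.homMk t rfl : Over.mk (t ≫ G.hom) ⟶ G)).left).1 ⟨z.left, rfl⟩
      (lift (s ≫ z ≫ Over.homMk t rfl) x).left s.left (by
        rw [← Over.comp_left, lift_fst]; rfl)
    refine ⟨Over.homMk l ?_, Over.OverMorphism.ext hl⟩
    rw [← Over.w jE, reassoc_of% hl, Over.w]
  · intro h
    have hF : FactorsOn (fst G X).left jE.left g.left := fun W a b w => by
      let S'' : Over S := Over.mk (b ≫ S'.hom)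
      let s : S'' ⟶ S' := Over.homMk b rfl
      let a' : S'' ⟶ G ⊗ X := Over.homMk a (by
        show a ≫ (G ⊗ X).hom = b ≫ S'.hom
        rw [← Over.w (fst G X), reassoc_of% w, Over.w])
      obtain ⟨l, hl⟩ := h S'' s (a' ≫ snd G X)
      refine ⟨l.left, ?_⟩
      have e : lift (s ≫ g) (a' ≫ snd G X) = a' :=
        CartesianMonoidalCategory.hom_ext _ _ (by rw [lift_fst]; exact Over.OverMorphism.ext w.symm)
          (lift_snd _ _)
      rw [e] at hl
      exact congrArg CommaMorphism.left hl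
    obtain ⟨g', hg'⟩ := (hrep _ g.left).2 hF
    refine ⟨Over.homMk g' ?_, Over.OverMorphism.ext hg'⟩
    show g' ≫ t ≫ G.hom = _
    rw [reassoc_of% hg', Over.w]

/-- Where all points of a smooth group lie in a family of subgroups. -/
theorem exists_closed_forall_subgroup {G H E : Over S} [GrpObj H] [Smooth H.hom] [GeometricallyIrreducible H.hom]
    (jE : E ⟶ G ⊗ H) [Mono jE] [LocallyOfFinitePresentation jE.left]
    (h1 : ∀ (W : Over S) (g : W ⟶ G), ∃ l : W ⟶ E, l ≫ jE = lift g 1)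
    (hmul : ∀ (W : Over S) (g : W ⟶ G) (a b : W ⟶ H), (∃ l : W ⟶ E, l ≫ jE = lift g a) →
      (∃ l : W ⟶ E, l ≫ jE = lift g b) → ∃ l : W ⟶ E, l ≫ jE = lift g (a * b))
    (hinv : ∀ (W : Over S) (g : W ⟶ G) (a : W ⟶ H), (∃ l : W ⟶ E, l ≫ jE = lift g a) →
      ∃ l : W ⟶ E, l ≫ jE = lift g a⁻¹) :
    ∃ (T : Over S) (t : T ⟶ G), IsClosedImmersion t.left ∧ LocallyOfFinitePresentation t.left ∧
      ∀ (S' : Over S) (g : S' ⟶ G), (∃ z : S' ⟶ T, z ≫ t = g) ↔
        ∀ (S'' : Over S) (s : S'' ⟶ S') (x : S'' ⟶ H), ∃ l : S'' ⟶ E, l ≫ jE = lift (s ≫ g) x := by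
  let Z := Red.bc G.hom H
  let σ : (G ⊗ H).left ≅ Z.left := pullbackSymmetry G.hom H.hom
  have hσ : σ.hom ≫ Z.hom = (fst G H).left := pullbackSymmetry_hom_comp_snd _ _
  have hσ' : σ.hom ≫ pullback.fst H.hom G.hom = (snd G H).left := pullbackSymmetry_hom_comp_fst _ _
  let E' : Over G.left := Over.mk ((jE ≫ fst G H).left)
  let m : E' ⟶ Z := Over.homMk (jE.left ≫ σ.hom) (by rw [Category.assoc, hσ]; rfl)
  haveI : Mono jE.left := (Over.forget S).map_mono jE
  haveI : Mono m := (Over.forget G.left).mono_of_mono_map (inferInstanceAs (Mono (jE.left ≫ σ.hom)))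
  -- points of `E'`
  let D := FixedSmooth.adjEquiv G.hom H
  let π : ∀ W : Over G.left, (Over.map G.hom).obj W ⟶ G := fun W => Over.homMk W.hom rfl
  have key : ∀ (W : Over G.left) (a : W ⟶ Z), (∃ c : W ⟶ E', c ≫ m = a) ↔
      ∃ l : (Over.map G.hom).obj W ⟶ E, l ≫ jE = lift (π W) ((D W).symm a) := by
    intro W a
    have ha : ((D W).symm a).left = a.left ≫ pullback.fst H.hom G.hom := by
      show (((Over.mapPullbackAdj G.hom).homEquiv W H).symm a).left = _
      rw [Adjunction.homEquiv_counit]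
      rfl
    have hz : (lift (π W) ((D W).symm a)).left ≫ σ.hom = a.left := by
      apply pullback.hom_ext
      · rw [Category.assoc, hσ', ← Over.comp_left, lift_snd, ha]
      · show (_ ≫ σ.hom) ≫ Z.hom = a.left ≫ Z.hom
        rw [Category.assoc, hσ, ← Over.comp_left, lift_fst, Over.w a]
        rfl
    constructor
    · rintro ⟨c, hc⟩
      have hc' : c.left ≫ jE.left = (lift (π W) ((D W).symm a)).left := by
        rw [← cancel_mono σ.hom, Category.assoc, hz]
        exact congrArg CommaMorphism.left hc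
      refine ⟨Over.homMk c.left ?_, Over.OverMorphism.ext hc'⟩
      rw [← Over.w jE, reassoc_of% hc', Over.w]
    · rintro ⟨l, hl⟩
      refine ⟨Over.homMk l.left ?_, ?_⟩
      · show l.left ≫ (jE ≫ fst G H).left = W.hom
        rw [← Over.comp_left, ← Category.assoc, hl, lift_fst]
        rfl
      · apply Over.OverMorphism.ext
        show l.left ≫ jE.left ≫ σ.hom = a.left
        rw [← Category.assoc, ← Over.comp_left, hl, hz]
  obtain ⟨str, hm⟩ := WeilClosedLib.exists_grpObj_of_closed m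
    ((key _ η[Z]).2 (by
      have : (D _).symm η[Z] = 1 := by
        rw [show η[Z] = (1 : 𝟙_ (Over G.left) ⟶ Z) by rw [Hom.one_def, toUnit_unique (toUnit _) (𝟙 _), Category.id_comp],
          map_one]
      rw [this]
      exact h1 _ _))
    (fun W a b => (key W _).2 (by
      rw [map_mul]
      exact hmul _ _ _ _ ((key W _).1 ⟨a, rfl⟩) ((key W _).1 ⟨b, rfl⟩)))
    (fun W a => (key W _).2 (by
      rw [map_inv]
      exact hinv _ _ _ ((key W _).1 ⟨a, rfl⟩)))
  letI := str
  haveI := hm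
  haveI : Smooth Z.hom := MorphismProperty.pullback_snd (P := @Smooth) H.hom G.hom ‹_›
  haveI : GeometricallyIrreducible Z.hom := MorphismProperty.pullback_snd (P := @GeometricallyIrreducible) H.hom G.hom ‹_›
  haveI : LocallyOfFinitePresentation (fst G H).left :=
    inferInstanceAs (LocallyOfFinitePresentation (pullback.fst G.hom H.hom))
  haveI : LocallyOfFinitePresentation E'.hom := inferInstanceAs (LocallyOfFinitePresentation (jE.left ≫ (fst G H).left))
  obtain ⟨T, t, ht, hfp, hT⟩ := exists_closed_iso m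
  refine ⟨Over.mk (t ≫ G.hom), Over.homMk t rfl, ht, hfp, exists_forall_of_rep jE t fun S' g => (hT S' g).trans ?_⟩
  show FactorsOn Z.hom (jE.left ≫ σ.hom) g ↔ _
  rw [← factorsOn_iso_iff, hσ]

variable {G H K : Over S} [GrpObj G] [GrpObj H] [GrpObj K]

/-- Where a family of homomorphisms lands in a subgroup. -/
theorem exists_transporter_mono [Smooth H.hom] [GeometricallyIrreducible H.hom] (c : G ⊗ H ⟶ G)
    (hc : ∀ (W : Over S) (g : W ⟶ G) (a b : W ⟶ H), lift g (a * b) ≫ c = (lift g a ≫ c) * (lift g b ≫ c))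
    (j : K ⟶ G) [IsMonHom j] [Mono j] [LocallyOfFinitePresentation j.left] :
    ∃ (T : Over S) (t : T ⟶ G), IsClosedImmersion t.left ∧ LocallyOfFinitePresentation t.left ∧
      ∀ (S' : Over S) (g : S' ⟶ G), (∃ z : S' ⟶ T, z ≫ t = g) ↔
        ∀ (S'' : Over S) (s : S'' ⟶ S') (x : S'' ⟶ H), ∃ κ : S'' ⟶ K, lift (s ≫ g) x ≫ c = κ ≫ j := by
  let E : Over S := Over.mk (pullback.fst c.left j.left ≫ (G ⊗ H).hom)
  let jE : E ⟶ G ⊗ H := Over.homMk (pullback.fst c.left j.left) rfl
  haveI : Mono j.left := (Over.forget S).map_mono j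
  haveI : Mono jE := (Over.forget S).mono_of_mono_map (inferInstanceAs (Mono (pullback.fst c.left j.left)))
  haveI : LocallyOfFinitePresentation jE.left := inferInstanceAs (LocallyOfFinitePresentation (pullback.fst c.left j.left))
  have key : ∀ (W : Over S) (z : W ⟶ G ⊗ H), (∃ l : W ⟶ E, l ≫ jE = z) ↔ ∃ κ : W ⟶ K, z ≫ c = κ ≫ j := by
    intro W z
    constructor
    · rintro ⟨l, rfl⟩
      refine ⟨Over.homMk (l.left ≫ pullback.snd c.left j.left) ?_, Over.OverMorphism.ext ?_⟩
      · rw [Category.assoc, ← Over.w j, ← Category.assoc (pullback.snd c.left j.left), ← pullback.condition,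
          Category.assoc, Over.w c]
        exact Over.w l
      · show (l.left ≫ jE.left) ≫ c.left = (l.left ≫ pullback.snd _ _) ≫ j.left
        rw [Category.assoc, Category.assoc, ← pullback.condition]
        rfl
    · rintro ⟨κ, hκ⟩
      exact ⟨Over.homMk (pullback.lift z.left κ.left (congrArg CommaMorphism.left hκ))
        (by show pullback.lift _ _ _ ≫ pullback.fst _ _ ≫ _ = _; rw [pullback.lift_fst_assoc, Over.w]),
        Over.OverMorphism.ext (pullback.lift_fst _ _ _)⟩
  have h1 : ∀ (W : Over S) (g : W ⟶ G), lift g (1 : W ⟶ H) ≫ c = 1 := fun W g => by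
    have := hc W g 1 1
    rwa [_root_.one_mul, left_eq_mul] at this
  obtain ⟨T, t, ht, hfp, hT⟩ := exists_closed_forall_subgroup jE
    (fun W g => (key _ _).2 ⟨1, by rw [h1, MonObj.one_comp]⟩)
    (fun W g a b ha hb => by
      obtain ⟨κ₁, h₁⟩ := (key _ _).1 ha
      obtain ⟨κ₂, h₂⟩ := (key _ _).1 hb
      exact (key _ _).2 ⟨κ₁ * κ₂, by rw [hc, h₁, h₂, MonObj.mul_comp]⟩)
    (fun W g a ha => by
      obtain ⟨κ₁, h₁⟩ := (key _ _).1 ha
      refine (key _ _).2 ⟨κ₁⁻¹, ?_⟩
      rw [GrpObj.inv_comp, ← h₁]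
      refine eq_inv_of_mul_eq_one_left ?_
      rw [← hc, inv_mul_cancel, h1])
  exact ⟨T, t, ht, hfp, fun S' g => (hT S' g).trans (forall₃_congr fun S'' s x => key _ _)⟩

end Groth.Agent.SmoothGrp

end
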