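import Groth.Agent.SmoothGrp.MulCover
import Groth.Agent.WeilClosedLib.Factors
import Mathlib.AlgebraicGeometry.Sites.Fpqc
import Mathlib.AlgebraicGeometry.Geometrically.Irreducible

/-!
A subgroup of a group with irreducible fibres containing a flat chart meeting every fibre is everything.
-/

set_option autoImplicit false
set_option backward.isDefEq.respectTransparency false
set_option backward.isDefEq.respectTransparency.types false
set_option linter.style.haveILetI false

universe u

open CategoryTheory CategoryTheory.Limits MonoidalCategory CartesianMonoidalCategory MonObj AlgebraicGeometry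

noncomputable section

namespace Groth.Agent.SmoothGrp

/-- A monomorphism of groups with a lift over a fibrewise dense flat chart is an isomorphism. -/
theorem exists_section_of_lift {T : Scheme.{u}} {X Y O : Over T} [GrpObj X] [GrpObj Y] (i : Y ⟶ X) [IsMonHom i]
    [Mono i] [Flat X.hom] [LocallyOfFinitePresentation X.hom] (o : O ⟶ X) [Flat o.left]
    [LocallyOfFinitePresentation o.left]
    (hd : ∀ s : T, Dense (pullback.fst X.hom (T.fromSpecResidueField s) ⁻¹' Set.range o.left))
    (ν : O ⟶ Y) (hν : ν ≫ i = o) : ∃ l : X ⟶ Y, l ≫ i = 𝟙 X := by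
  let c := (o ⊗ₘ o) ≫ μ[X]
  obtain ⟨hf, hp, hs⟩ := mul_cover o hd
  haveI : Flat c.left := hf
  haveI : LocallyOfFinitePresentation c.left := hp
  haveI : Surjective c.left := hs
  let d := (ν ⊗ₘ ν) ≫ μ[Y]
  have hdi : d ≫ i = c := by
    show ((ν ⊗ₘ ν) ≫ μ[Y]) ≫ i = (o ⊗ₘ o) ≫ μ[X]
    rw [Category.assoc, IsMonHom.mul_hom, ← Category.assoc, tensorHom_comp_tensorHom, hν]
  have hcomp : ∀ {W : Scheme.{u}} (g₁ g₂ : W ⟶ (O ⊗ O).left), g₁ ≫ c.left = g₂ ≫ c.left →
      g₁ ≫ d.left = g₂ ≫ d.left := by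
    intro W g₁ g₂ h
    have hw : g₂ ≫ (O ⊗ O).hom = g₁ ≫ (O ⊗ O).hom := by rw [← Over.w c, reassoc_of% h]
    let a : Over.mk (g₁ ≫ (O ⊗ O).hom) ⟶ O ⊗ O := Over.homMk g₁ rfl
    let b : Over.mk (g₁ ≫ (O ⊗ O).hom) ⟶ O ⊗ O := Over.homMk g₂ hw
    have h' : (a ≫ d) ≫ i = (b ≫ d) ≫ i := by
      rw [Category.assoc a, Category.assoc b, hdi]; exact Over.OverMorphism.ext h
    exact congrArg CommaMorphism.left ((cancel_mono i).1 h')
  haveI : EffectiveEpi c.left := inferInstance
  let l := EffectiveEpi.desc c.left d.left hcomp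
  have hl : c.left ≫ l = d.left := EffectiveEpi.fac c.left d.left hcomp
  refine ⟨Over.homMk l ?_, Over.OverMorphism.ext ?_⟩
  · rw [← cancel_epi c.left, reassoc_of% hl, Over.w, Over.w]
  · show l ≫ i.left = 𝟙 X.left
    rw [← cancel_epi c.left, reassoc_of% hl, Category.comp_id]
    exact congrArg CommaMorphism.left hdi

theorem factorsOn_of_lift {S : Scheme.{u}} {X Y : Over S} [GrpObj X] [GrpObj Y] (i : Y ⟶ X) [IsMonHom i] [Mono i]
    [Flat X.hom] [LocallyOfFinitePresentation X.hom] [GeometricallyIrreducible X.hom]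
    {T : Scheme.{u}} (g : T ⟶ S) {O : Scheme.{u}} (o : O ⟶ pullback X.hom g) [Flat o]
    [LocallyOfFinitePresentation o] (hne : ∀ t, ∃ z, pullback.snd X.hom g (o z) = t)
    (ν : O ⟶ Y.left) (hν : ν ≫ i.left = o ≫ pullback.fst X.hom g) :
    WeilClosedLib.FactorsOn X.hom i.left g := by
  let F := Over.pullback g
  haveI : Mono (F.map i) := inferInstance
  haveI : IsMonHom (F.map i) := inferInstance
  haveI : Flat (Red.bc g X).hom := MorphismProperty.pullback_snd (P := @Flat) X.hom g ‹_›
  haveI : LocallyOfFinitePresentation (Red.bc g X).hom :=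
    MorphismProperty.pullback_snd (P := @LocallyOfFinitePresentation) X.hom g ‹_›
  haveI : GeometricallyIrreducible (Red.bc g X).hom :=
    MorphismProperty.pullback_snd (P := @GeometricallyIrreducible) X.hom g ‹_›
  let O' : Over T := Over.mk (o ≫ pullback.snd X.hom g)
  let o' : O' ⟶ Red.bc g X := Over.homMk o rfl
  let ν' : O' ⟶ Red.bc g Y := Over.homMk (pullback.lift ν (o ≫ pullback.snd X.hom g) (by
    rw [← Over.w i, reassoc_of% hν, Category.assoc, pullback.condition])) (pullback.lift_snd _ _ _)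
  have hν' : ν' ≫ F.map i = o' := by
    apply Over.OverMorphism.ext
    apply pullback.hom_ext <;> simp [ν', o', F, O', hν]
  haveI : Flat o'.left := ‹Flat o›
  haveI : LocallyOfFinitePresentation o'.left := ‹LocallyOfFinitePresentation o›
  have hd : ∀ t : T, Dense (pullback.fst (Red.bc g X).hom (T.fromSpecResidueField t) ⁻¹' Set.range o'.left) := by
    intro t
    let p := pullback.fst (Red.bc g X).hom (T.fromSpecResidueField t)
    haveI : IrreducibleSpace ↥(pullback (Red.bc g X).hom (T.fromSpecResidueField t)) :=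
      inferInstanceAs (IrreducibleSpace ((Red.bc g X).hom.fiber t))
    obtain ⟨z, hz⟩ := hne t
    obtain ⟨x', hx'⟩ : o'.left z ∈ Set.range p := ((Red.bc g X).hom.range_fiberι t).ge hz
    exact (o'.left.isOpenMap.isOpen_range.preimage p.continuous).dense ⟨x', z, hx'.symm⟩
  obtain ⟨l, hl⟩ := exists_section_of_lift (F.map i) o' hd ν' hν'
  intro W a b w
  refine ⟨pullback.lift a b w ≫ l.left ≫ pullback.fst Y.hom g, ?_⟩
  have h1 := congrArg (fun z => z.left ≫ pullback.fst X.hom g) hl
  simp [F, Red.bc] at h1 ⊢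
  rw [h1, pullback.lift_fst]

end Groth.Agent.SmoothGrp

end
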